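import Groth.Agent.FormalLib.Main
import Groth.Agent.HomCohLib.Coh
import Groth.Agent.Formal2VBLib.Sections
import Groth.Agent.DegPullLib.H0
import Groth.Agent.TFModLib.Flat
import Groth.Agent.TFModLib.Ext
import Groth.Agent.ModTorsLib.HomZero
import Groth.Agent.QCohLib.QcqsSections
import Groth.Prelude.Def_KLin

/-!
# Homomorphisms over a discrete valuation ring
-/

set_option autoImplicit false
set_option linter.style.haveILetI false
set_option maxHeartbeats 1000000
universe u

open CategoryTheory CategoryTheory.Limits AlgebraicGeometry TopologicalSpace Opposite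
open DevissLib
open CohCmpLib (homMod)

noncomputable section

namespace HomDvrLib

theorem finite_hom {A : Type u} [CommRing A] [IsNoetherianRing A] {X : Scheme.{u}} [X.Over (Spec (CommRingCat.of A))]
    [IsProper (X ↘ Spec (CommRingCat.of A))] {M P : X.Modules} (hM : Coh.IsCoh M) (hP : Coh.IsCoh P) :
    Module.Finite A (M ⟶ P) := by
  haveI : IsLocallyNoetherian X := LocallyOfFiniteType.isLocallyNoetherian (X ↘ Spec (CommRingCat.of A))
  haveI := FormalLib.finite_HH (A := A) (homMod M P) (HomCohLib.isCoh_homMod hM hP) 0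
  let L : Coh.HH X (homMod M P) 0 →ₗ[A] (M ⟶ P) :=
    { toFun := fun x => Formal2VBLib.sh (DegPullLib.e0 _ x)
      map_add' := fun x y => by
        rw [map_add]
        exact Formal2VBLib.sh_add _ _
      map_smul' := fun a x => by
        have h1 : DegPullLib.e0 (homMod M P) (a • x) =
            (show Γ(X, ⊤) from Coh.toGlobal (X ↘ Spec (CommRingCat.of A)) a) • DegPullLib.e0 (homMod M P) x :=
          DegPullLib.e0_smul _ _ x
        rw [h1, RingHom.id_apply, Formal2VBLib.sh_smul, KLin.smul_def, Formal.smulMod]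
        exact (KLin.comp_smulModΓ _ _) }
  exact Module.Finite.of_surjective L fun φ =>
    ⟨(DegPullLib.e0 _).symm (Formal2VBLib.oh φ), by
      show Formal2VBLib.sh (DegPullLib.e0 _ _) = φ
      rw [AddEquiv.apply_symm_apply, Formal2VBLib.sh_oh]⟩

/-- A coherent module vanishing on `D(a)` is killed by a power of `a`. -/
theorem exists_pow_kill {X : Scheme.{u}} [IsLocallyNoetherian X] [CompactSpace X] (a : Γ(X, ⊤)) {M : X.Modules} (hM : Coh.IsCoh M)
    (h : ∀ x ∈ X.basicOpen a, x ∉ CohB1.support M) : ∃ n : ℕ, Formal.smulModΓ M (a ^ n) = 0 := by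
  haveI := (HomCohLib.isCoh_homMod hM hM).1
  let t : Γ(homMod M M, (⊤ : X.Opens)) := Formal2VBLib.oh (𝟙 M)
  have ht : (homMod M M).presheaf.map (homOfLE (inf_le_left : (⊤ : X.Opens) ⊓ X.basicOpen a ≤ ⊤)).op t = 0 := by
    refine CohCmpLib.homMod_ext fun y hy => LinearMap.ext fun v => ?_
    obtain hz := (notMem_support_iff M y).mp (h y hy.2)
    haveI := ModuleCat.subsingleton_of_isZero hz
    exact @Subsingleton.elim ((St y).obj M) this _ _
  obtain ⟨n, hn⟩ := QCohLib.exists_pow_smul_eq_zero (M := homMod M M) a ⊤ isCompact_univ le_rfl t ht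
  refine ⟨n, ?_⟩
  have he : X.presheaf.map (homOfLE (le_refl (⊤ : X.Opens))).op a = a := by
    rw [show (homOfLE (le_refl (⊤ : X.Opens))).op = 𝟙 _ from rfl, X.presheaf.map_id]
    rfl
  rw [he] at hn
  have h2 := congrArg Formal2VBLib.sh hn
  rw [Formal2VBLib.sh_smul, Formal2VBLib.sh_oh, Category.id_comp] at h2
  refine h2.trans (TFModLib.eq_zero_of_stalks _ fun x v => ?_)
  rw [Formal2VBLib.stalk_sh]
  rfl

/-- A map bijective on small sections is bijective on stalks. -/
theorem bijective_stalk_of_app {X : Scheme.{u}} {A B : X.Modules} (φ : A ⟶ B) (x : X) (O : X.Opens) (hx : x ∈ O)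
    (happ : ∀ V : X.Opens, V ≤ O → Function.Bijective (φ.app V)) : Function.Bijective ((St x).map φ).hom := by
  constructor
  · rw [injective_iff_map_eq_zero]
    intro v hv
    obtain ⟨V, hxV, s, rfl⟩ := exists_gm_eq A x v
    rw [gm_app] at hv
    obtain ⟨W, hWx, i1, i2, hW⟩ := TopCat.Presheaf.germ_eq _ x hxV hxV _ (0 : Γ(B, V)) (hv.trans (gm_zero _ x hxV).symm)
    rw [map_zero] at hW
    let W' : X.Opens := W ⊓ O
    have h0 : φ.app W' (A.presheaf.map (homOfLE (inf_le_left.trans i1.le : W' ≤ V)).op s) = 0 := by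
      refine (QCohLib.app_map _ _ _).trans ?_
      have := congrArg (B.presheaf.map (homOfLE (inf_le_left : W' ≤ W)).op) hW
      rw [map_zero, ← CategoryTheory.comp_apply, ← Functor.map_comp] at this
      exact this
    have h1 := (happ W' inf_le_right).1 (h0.trans (map_zero _).symm)
    refine (TopCat.Presheaf.germ_res_apply A.presheaf (homOfLE (inf_le_left.trans i1.le : W' ≤ V)) x ⟨hWx, hx⟩ s).symm.trans ?_
    exact (congrArg _ h1).trans (map_zero _)
  · intro v
    obtain ⟨V, hxV, s, rfl⟩ := exists_gm_eq B x v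
    let W' : X.Opens := V ⊓ O
    obtain ⟨t, ht⟩ := (happ W' inf_le_right).2 (B.presheaf.map (homOfLE (inf_le_left : W' ≤ V)).op s)
    refine ⟨gm A x (U := W') ⟨hxV, hx⟩ t, ?_⟩
    rw [gm_app]
    refine (congrArg (gm _ x (U := W') ⟨hxV, hx⟩) ht).trans ?_
    exact TopCat.Presheaf.germ_res_apply _ _ _ _ _

/-- The unit of an open immersion is bijective on stalks over its range. -/
theorem bijective_unit_stalk {U X : Scheme.{u}} (j : U ⟶ X) [IsOpenImmersion j] (F : X.Modules) (x : X) (hx : x ∈ j.opensRange) :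
    Function.Bijective ((St x).map ((Scheme.Modules.pullbackPushforwardAdjunction j).unit.app F)).hom := by
  have he := Adjunction.unit_leftAdjointUniq_hom_app (Scheme.Modules.restrictAdjunction j)
    (Scheme.Modules.pullbackPushforwardAdjunction j) F
  rw [← he, Functor.map_comp, ModuleCat.hom_comp, LinearMap.coe_comp]
  refine Function.Bijective.comp (ConcreteCategory.bijective_of_isIso
    ((St x).map ((Scheme.Modules.pushforward j).map (((Scheme.Modules.restrictAdjunction j).leftAdjointUniq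
      (Scheme.Modules.pullbackPushforwardAdjunction j)).hom.app F)))) ?_
  have happ : ∀ V : X.Opens, V ≤ j.opensRange →
      Function.Bijective (((Scheme.Modules.restrictAdjunction j).unit.app F).app V) := fun V hV => by
    rw [Scheme.Modules.restrictAdjunction_unit_app_app]
    have e : j ''ᵁ (j ⁻¹ᵁ V) = V := by
      rw [Scheme.Hom.image_preimage_eq_opensRange_inf]
      exact inf_eq_right.mpr hV
    haveI : IsIso (homOfLE (j.image_preimage_le V)) := ⟨homOfLE e.ge, rfl, rfl⟩
    exact ConcreteCategory.bijective_of_isIso (F.presheaf.map (homOfLE (j.image_preimage_le V)).op)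
  exact bijective_stalk_of_app (A := F) ((Scheme.Modules.restrictAdjunction j).unit.app F) x j.opensRange hx happ

variable {R : Type u} [CommRing R] [IsDomain R] [IsDiscreteValuationRing R]
  {X : Scheme.{u}} [X.Over (Spec (CommRingCat.of R))]

local notation "f₀" => (X ↘ Spec (CommRingCat.of R))

theorem stalk_smul {M N : X.Modules} (c : R) (φ : M ⟶ N) (x : X) (v : (St x).obj M) :
    ((St x).map (c • φ)).hom v = TFModLib.rho f₀ c x • ((St x).map φ).hom v := by
  rw [KLin.smul_def, Functor.map_comp]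
  refine (congrArg (fun t => ((St x).map φ).hom t) (Formal2VBLib.stalk_smulModΓ M _ x v)).trans ?_
  exact map_smul _ _ _

theorem eq_zero_of_smul {M N : X.Modules} (hN : FlatMod.IsFlatOver f₀ N) {c : R} (hc : c ≠ 0) {φ : M ⟶ N}
    (h : c • φ = 0) : φ = 0 := TFModLib.eq_zero_of_stalks φ fun x v => by
  refine TFModLib.smul_rho_injective f₀ hN hc x ?_
  show TFModLib.rho f₀ c x • _ = TFModLib.rho f₀ c x • (0 : (St x).obj N)
  rw [← stalk_smul, smul_zero, h, Functor.map_zero]
  rfl

theorem pullback_smul {Z : Scheme.{u}} (i : Z ⟶ X) {M N : X.Modules} (c : R) (φ : M ⟶ N) :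
    (Scheme.Modules.pullback i).map (c • φ) =
      Formal.smulModΓ ((Scheme.Modules.pullback i).obj M) (i.appTop (Coh.toGlobal f₀ c)) ≫
        (Scheme.Modules.pullback i).map φ := by
  rw [KLin.smul_def, Functor.map_comp, Formal.smulMod, ModTorsLib.pullback_map_smulModΓ]

/-- Maps killed on the special fibre are divisible. -/
theorem exists_div {Xs : Scheme.{u}} (i : Xs ⟶ X) [IsClosedImmersion i]
    (g : Xs ⟶ Spec (CommRingCat.of (IsLocalRing.ResidueField R)))
    (hsq : IsPullback i g f₀ (Spec.map (CommRingCat.ofHom (IsLocalRing.residue R)))) {ϖ : R} (hϖ : Irreducible ϖ)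
    {I F : X.Modules} (hF : FlatMod.IsFlatOver f₀ F) (φ : I ⟶ F) (h : (Scheme.Modules.pullback i).map φ = 0) :
    ∃ ψ : I ⟶ F, φ = ϖ • ψ := by
  let m : F ⟶ F := ϖ • 𝟙 F
  haveI : Mono m := Preadditive.mono_of_cancel_zero _ fun {Z} χ hχ =>
    eq_zero_of_smul hF hϖ.ne_zero (by rw [← hχ, Linear.comp_smul, Category.comp_id])
  have hkey : ∀ x (v : (St x).obj I), ∃ m', ((St x).map φ).hom v = TFModLib.rho f₀ ϖ x • m' := by
    intro x v
    by_cases hx : x ∈ Set.range ⇑i
    · obtain ⟨z, rfl⟩ := hx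
      refine (TFModLib.res_eq_zero_iff i F z (TFModLib.ker_stalkMap f₀ i g hsq hϖ z) _).mp ?_
      rw [← TFModLib.res_map, h, Functor.map_zero]
      rfl
    · obtain ⟨w, hw⟩ := TFModLib.isUnit_rho f₀ hsq hϖ hx
      refine ⟨((w⁻¹ : (X.presheaf.stalk x)ˣ) : X.presheaf.stalk x) • ((St x).map φ).hom v, ?_⟩
      rw [← hw, smul_smul, Units.mul_inv, one_smul]
  have hz : φ ≫ cokernel.π m = 0 := TFModLib.eq_zero_of_stalks _ fun x v => by
    obtain ⟨m', hm'⟩ := hkey x v
    rw [Functor.map_comp]
    show ((St x).map (cokernel.π m)).hom (((St x).map φ).hom v) = 0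
    have h1 : ((St x).map m).hom m' = ((St x).map φ).hom v := by
      rw [stalk_smul, hm', CategoryTheory.Functor.map_id]
      rfl
    rw [← h1]
    have h2 := congrArg (fun t => t.hom m') (congrArg (St x).map (cokernel.condition m))
    simpa only [Functor.map_comp, Functor.map_zero, ModuleCat.hom_comp, ModuleCat.hom_zero,
      LinearMap.comp_apply, LinearMap.zero_apply] using h2
  refine ⟨Abelian.monoLift m φ hz, ?_⟩
  conv_lhs => rw [← Abelian.monoLift_comp m φ hz]
  rw [Linear.comp_smul, Category.comp_id]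

theorem toGlobal_eq_pow (c : R) (n : ℕ) : Coh.toGlobal f₀ (c ^ n) = Coh.toGlobal f₀ c ^ n := map_pow _ _ _

/-- Maps over `D(ϖ)` extend after multiplication by a power of `ϖ`. -/
theorem exists_extend [IsProper f₀] {U : Scheme.{u}} (j : U ⟶ X) [IsOpenImmersion j] [QuasiCompact j] (ϖ : R) (hϖ : ϖ ≠ 0)
    (hj : j.opensRange = X.basicOpen (Coh.toGlobal f₀ ϖ)) {I F : X.Modules} (hI : Coh.IsCoh I) (hF : Coh.IsCoh F)
    (hfl : FlatMod.IsFlatOver f₀ F)
    (ψ : (Scheme.Modules.pullback j).obj I ⟶ (Scheme.Modules.pullback j).obj F) :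
    ∃ (N : ℕ) (φ : I ⟶ F), (Scheme.Modules.pullback j).map φ =
      Formal.smulModΓ ((Scheme.Modules.pullback j).obj I) (j.appTop (Coh.toGlobal f₀ (ϖ ^ N))) ≫ ψ := by
  haveI : IsLocallyNoetherian X := LocallyOfFiniteType.isLocallyNoetherian f₀
  haveI : CompactSpace X := QuasiCompact.compactSpace_of_compactSpace f₀
  haveI := hI.1; haveI := hF.1
  let adj := Scheme.Modules.pullbackPushforwardAdjunction j
  let G := (Scheme.Modules.pushforward j).obj ((Scheme.Modules.pullback j).obj F)
  let u : F ⟶ G := adj.unit.app F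
  haveI : Coh.IsQCoh ((Scheme.Modules.pullback j).obj F) := KFlatLib.isQCoh_pullback j F
  haveI : Coh.IsQCoh G := QCohLib.isQCoh_pushforward j _
  have hb : ∀ x ∈ X.basicOpen (Coh.toGlobal f₀ ϖ), Function.Bijective ((St x).map u).hom := fun x hx =>
    bijective_unit_stalk j F x (hj ▸ hx)
  haveI : Mono u := by
    refine Preadditive.mono_of_cancel_zero _ fun {Z} χ hχ => ?_
    have hK : Coh.IsCoh (kernel u) := QCohLib.isCoh_of_mono (kernel.ι u) hF (QCohLib.isQCoh_kernel u)
    obtain ⟨n, hn⟩ := exists_pow_kill (Coh.toGlobal f₀ ϖ) hK fun x hx => notMem_support_kernel u x (hb x hx).1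
    have hι : kernel.ι u = 0 := eq_zero_of_smul hfl (pow_ne_zero n hϖ) (by
      rw [KLin.smul_def, Formal.smulMod, toGlobal_eq_pow]
      exact (congrArg (· ≫ kernel.ι u) hn).trans zero_comp)
    rw [← kernel.lift_ι u χ hχ, hι, comp_zero]
  let g : I ⟶ G := adj.unit.app I ≫ (Scheme.Modules.pushforward j).map ψ
  let q := g ≫ cokernel.π u
  haveI : Coh.IsQCoh (cokernel u) := QCohLib.isQCoh_cokernel u
  have hJq : Coh.IsQCoh (Abelian.image q) := QCohLib.isQCoh_image q
  have hJ : Coh.IsCoh (Abelian.image q) :=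
    ⟨hJq, QCohLib.isFT_of_epi (Abelian.factorThruImage q) hI.2⟩
  obtain ⟨n, hn⟩ := exists_pow_kill (Coh.toGlobal f₀ ϖ) hJ fun x hx hs =>
    notMem_support_cokernel u x (hb x hx).2 (support_mono (Abelian.image.ι q) hs)
  have hz : ((ϖ ^ n) • g) ≫ cokernel.π u = 0 := by
    rw [Linear.smul_comp, KLin.smul_def, Formal.smulMod, toGlobal_eq_pow]
    show Formal.smulModΓ I _ ≫ q = 0
    rw [← Abelian.image.fac q, ← Category.assoc, Formal2VBLib.smulModΓ_naturality, Category.assoc]
    exact (congrArg (fun t => Abelian.factorThruImage q ≫ t ≫ Abelian.image.ι q) hn).trans (by rw [zero_comp, comp_zero])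
  refine ⟨n, Abelian.monoLift u _ hz, ?_⟩
  refine (adj.homEquiv _ _).injective ?_
  have e1 : adj.homEquiv _ _ ((Scheme.Modules.pullback j).map (Abelian.monoLift u _ hz)) = Abelian.monoLift u _ hz ≫ u := by
    rw [Adjunction.homEquiv_unit]
    exact (adj.unit.naturality _).symm
  rw [e1, Abelian.monoLift_comp, ← ModTorsLib.pullback_map_smulModΓ, Adjunction.homEquiv_naturality_left,
    Adjunction.homEquiv_unit, KLin.smul_def, Formal.smulMod]

end HomDvrLib

namespace HomDvrLib

variable {R : Type u} [CommRing R] [IsDomain R] [IsDiscreteValuationRing R]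
  {X : Scheme.{u}} [X.Over (Spec (CommRingCat.of R))]

/-- Maps vanishing over `D(ϖ)` vanish. -/
theorem eq_zero_of_pullback [IsProper (X ↘ Spec (CommRingCat.of R))] {U : Scheme.{u}} (j : U ⟶ X) [IsOpenImmersion j] (ϖ : R) (hϖ : ϖ ≠ 0)
    (hj : j.opensRange = X.basicOpen (Coh.toGlobal (X ↘ Spec (CommRingCat.of R)) ϖ)) {I F : X.Modules} (hI : Coh.IsCoh I)
    (hF : Coh.IsCoh F) (hfl : FlatMod.IsFlatOver (X ↘ Spec (CommRingCat.of R)) F) (φ : I ⟶ F)
    (h : (Scheme.Modules.pullback j).map φ = 0) : φ = 0 := by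
  haveI : IsLocallyNoetherian X := LocallyOfFiniteType.isLocallyNoetherian (X ↘ Spec (CommRingCat.of R))
  haveI : CompactSpace X := QuasiCompact.compactSpace_of_compactSpace (X ↘ Spec (CommRingCat.of R))
  have hu : φ ≫ (Scheme.Modules.pullbackPushforwardAdjunction j).unit.app F = 0 := by
    refine ((Scheme.Modules.pullbackPushforwardAdjunction j).unit.naturality φ).trans ?_
    rw [Functor.comp_map, h, Functor.map_zero, comp_zero]
  have hJ := isCoh_image φ hI hF
  obtain ⟨n, hn⟩ := exists_pow_kill (Coh.toGlobal (X ↘ Spec (CommRingCat.of R)) ϖ) hJ fun x hx hs => by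
    obtain ⟨a, ha⟩ := (mem_support_iff_nonzero _ x).mp hs
    obtain ⟨v, rfl⟩ := (ModuleCat.epi_iff_surjective ((St x).map (Abelian.factorThruImage φ))).mp inferInstance a
    refine ha ((ModuleCat.mono_iff_injective ((St x).map (Abelian.image.ι φ))).mp inferInstance ?_)
    rw [map_zero, ← LinearMap.comp_apply, ← ModuleCat.hom_comp, ← Functor.map_comp, Abelian.image.fac]
    refine (bijective_unit_stalk j F x (hj ▸ hx)).1 ?_
    refine Eq.trans ?_ (map_zero _).symm
    exact (congrArg (fun t => t.hom v) ((Functor.map_comp (St x) φ _).symm.trans (congrArg (St x).map hu))).trans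
      (by rw [Functor.map_zero, ModuleCat.hom_zero, LinearMap.zero_apply])
  refine eq_zero_of_smul hfl (pow_ne_zero n hϖ) ?_
  rw [KLin.smul_def, Formal.smulMod, toGlobal_eq_pow, ← Abelian.image.fac φ, ← Category.assoc,
    Formal2VBLib.smulModΓ_naturality, Category.assoc]
  exact (congrArg (fun t => Abelian.factorThruImage φ ≫ t ≫ Abelian.image.ι φ) hn).trans (by rw [zero_comp, comp_zero])

end HomDvrLib
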