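import Groth.Agent.HomDvrLib.Core
import Groth.Agent.ConsLib.ModLoci
import Groth.Agent.NodalLib.Family
import Groth.Agent.KSModLib.Coherent

/-!
# The module of homomorphisms over a discrete valuation ring is free
-/

set_option autoImplicit false
set_option linter.style.haveILetI false
set_option maxHeartbeats 1000000
universe u

open CategoryTheory CategoryTheory.Limits AlgebraicGeometry TopologicalSpace Opposite

noncomputable section

namespace HomDvrLib

variable {R : Type u} [CommRing R]

/-- The evaluation at a point of the spectrum. -/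
def ev (y : Spec (CommRingCat.of R)) : CommRingCat.of R ⟶ (Spec (CommRingCat.of R)).residueField y :=
  CommRingCat.ofHom (algebraMap R (PrimeSpectrum.asIdeal y).ResidueField) ≫ (Scheme.Spec.residueFieldIso (CommRingCat.of R) y).inv

theorem map_ev (y : Spec (CommRingCat.of R)) : Spec.map (ev y) = (Spec (CommRingCat.of R)).fromSpecResidueField y := by
  rw [ev, Spec.map_comp]
  exact Scheme.Spec.map_residueFieldIso_inv_eq_fromSpecResidueField (CommRingCat.of R) y

theorem ev_eq_zero (y : Spec (CommRingCat.of R)) (r : R) : (ev y).hom r = 0 ↔ r ∈ PrimeSpectrum.asIdeal y := by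
  have hi : Function.Injective (Scheme.Spec.residueFieldIso (CommRingCat.of R) y).inv.hom :=
    (ConcreteCategory.bijective_of_isIso _).1
  show (Scheme.Spec.residueFieldIso (CommRingCat.of R) y).inv.hom (algebraMap R (PrimeSpectrum.asIdeal y).ResidueField r) = 0 ↔ _
  rw [map_eq_zero_iff _ hi]
  exact Ideal.algebraMap_residueField_eq_zero

theorem ev_surjective (y : Spec (CommRingCat.of R)) [h : (PrimeSpectrum.asIdeal y).IsMaximal] :
    Function.Surjective (ev y).hom :=
  (ConcreteCategory.bijective_of_isIso (Scheme.Spec.residueFieldIso (CommRingCat.of R) y).inv).2.comp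
    (Ideal.algebraMap_residueField_surjective _)

theorem toGlobal_fibre {X : Scheme.{u}} (f : X ⟶ Spec (CommRingCat.of R)) (y : Spec (CommRingCat.of R)) (r : R) :
    (f.fiberι y).appTop (Coh.toGlobal f r) = Coh.toGlobal (f.fiberToSpecResidueField y) ((ev y).hom r) := by
  have hw : f.fiberι y ≫ f = f.fiberToSpecResidueField y ≫ (Spec (CommRingCat.of R)).fromSpecResidueField y :=
    pullback.condition
  have h1 := ConcreteCategory.congr_hom (Scheme.ΓSpecIso_inv_naturality (ev y)) r
  show (f.appTop ≫ (f.fiberι y).appTop) ((Scheme.ΓSpecIso (CommRingCat.of R)).inv r) = _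
  rw [← Scheme.Hom.comp_appTop, hw, Scheme.Hom.comp_appTop, ← map_ev]
  show (f.fiberToSpecResidueField y).appTop ((Spec.map (ev y)).appTop ((Scheme.ΓSpecIso (CommRingCat.of R)).inv r)) = _
  exact congrArg (f.fiberToSpecResidueField y).appTop h1.symm

theorem point_cases [IsDomain R] [IsDiscreteValuationRing R] (y : Spec (CommRingCat.of R)) :
    PrimeSpectrum.asIdeal y = ⊥ ∨ PrimeSpectrum.asIdeal y = IsLocalRing.maximalIdeal R := by
  by_cases h : PrimeSpectrum.asIdeal y = ⊥
  · exact Or.inl h
  · exact Or.inr (IsLocalRing.eq_maximalIdeal ((PrimeSpectrum.isPrime y).isMaximal h))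

variable [IsDomain R] [IsDiscreteValuationRing R]

theorem mem_iff_generic {ϖ : R} (hϖ : Irreducible ϖ) (y : Spec (CommRingCat.of R)) :
    ϖ ∉ PrimeSpectrum.asIdeal y ↔ PrimeSpectrum.asIdeal y = ⊥ := by
  refine ⟨fun h => ?_, fun h hm => hϖ.ne_zero ?_⟩
  · rcases point_cases y with h' | h'
    · exact h'
    · exact absurd (h' ▸ hϖ.maximalIdeal_eq ▸ Ideal.mem_span_singleton_self ϖ) h
  · rw [h] at hm
    exact hm

theorem isOpenImmersion_generic {ϖ : R} (hϖ : Irreducible ϖ) (y : Spec (CommRingCat.of R))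
    (hy : PrimeSpectrum.asIdeal y = ⊥) : IsOpenImmersion ((Spec (CommRingCat.of R)).fromSpecResidueField y) := by
  let U : (Spec (CommRingCat.of R)).Opens := PrimeSpectrum.basicOpen ϖ
  haveI : IsIntegral (Spec (CommRingCat.of R)) := inferInstanceAs (IsIntegral (Spec (CommRingCat.of R)))
  haveI : Subsingleton ↥U := ⟨fun a b => Subtype.ext (PrimeSpectrum.ext
    (((mem_iff_generic hϖ a.1).mp a.2).trans ((mem_iff_generic hϖ b.1).mp b.2).symm))⟩
  haveI : Subsingleton ↥(U : Scheme.{u}) := ‹Subsingleton ↥U›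
  haveI : DiscreteTopology ↥(U : Scheme.{u}) := inferInstance
  haveI : AlgebraicGeometry.IsReduced (U : Scheme.{u}) := isReduced_of_isOpenImmersion U.ι
  let z : (U : Scheme.{u}) := ⟨y, (mem_iff_generic hϖ y).mpr hy⟩
  haveI := NodalLib.isOpenImmersion_fromSpecResidueField z
  have h := U.ι.SpecMap_residueFieldMap_fromSpecResidueField z
  haveI : IsOpenImmersion (Spec.map (U.ι.residueFieldMap z) ≫ (Spec (CommRingCat.of R)).fromSpecResidueField (U.ι z)) :=
    h ▸ inferInstance
  exact (MorphismProperty.cancel_left_of_respectsIso @IsOpenImmersion (Spec.map (U.ι.residueFieldMap z)) _).mp ‹_›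

variable {X : Scheme.{u}} [X.Over (Spec (CommRingCat.of R))]

local notation "f₀" => (X ↘ Spec (CommRingCat.of R))

theorem opensRange_generic {ϖ : R} (hϖ : Irreducible ϖ) (y : Spec (CommRingCat.of R))
    (hy : PrimeSpectrum.asIdeal y = ⊥) [IsOpenImmersion ((f₀).fiberι y)] :
    ((f₀).fiberι y).opensRange = X.basicOpen (Coh.toGlobal f₀ ϖ) := by
  ext x
  show x ∈ Set.range _ ↔ _
  rw [(f₀).range_fiberι]
  have h1 : x ∈ X.basicOpen (Coh.toGlobal f₀ ϖ) ↔ ϖ ∉ PrimeSpectrum.asIdeal (f₀ x) := by
    have h2 : X.basicOpen (Coh.toGlobal f₀ ϖ) = f₀ ⁻¹ᵁ (Spec (CommRingCat.of R)).basicOpen ((Scheme.ΓSpecIso (CommRingCat.of R)).inv ϖ) :=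
      (Scheme.preimage_basicOpen_top f₀ _).symm
    rw [h2, basicOpen_eq_of_affine']
    simp
    rfl
  refine Iff.trans ?_ h1.symm
  rw [mem_iff_generic hϖ]
  exact ⟨fun h => (congrArg PrimeSpectrum.asIdeal (h : f₀ x = y)).trans hy, fun h => PrimeSpectrum.ext (h.trans hy.symm)⟩

theorem main [IsProper f₀] (I F : X.Modules) (hI : Coh.IsCoh I) (hF : Coh.IsCoh F) (hfl : FlatMod.IsFlatOver f₀ F) (n : ℕ)
    (hfib : ∀ y : ↥(Spec (CommRingCat.of R)),
      letI : ((f₀).fiber y).Over (Spec (CommRingCat.of ((Spec (CommRingCat.of R)).residueField y))) :=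
        ⟨(f₀).fiberToSpecResidueField y⟩
      Module.finrank ((Spec (CommRingCat.of R)).residueField y)
        ((Scheme.Modules.pullback ((f₀).fiberι y)).obj I ⟶ (Scheme.Modules.pullback ((f₀).fiberι y)).obj F) = n) :
    Module.Finite R (I ⟶ F) ∧ Module.Free R (I ⟶ F) ∧ Module.finrank R (I ⟶ F) = n ∧
      (0 < n → ∃ φ : I ⟶ F, ∀ y : ↥(Spec (CommRingCat.of R)),
        (Scheme.Modules.pullback ((f₀).fiberι y)).map φ ≠ 0) := by
  obtain ⟨ϖ, hϖ⟩ := IsDiscreteValuationRing.exists_irreducible R
  haveI hfin : Module.Finite R (I ⟶ F) := finite_hom hI hF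
  haveI : Module.IsTorsionFree R (I ⟶ F) := ⟨fun r hr a b hab => by
    refine sub_eq_zero.mp (eq_zero_of_smul hfl hr.ne_zero ?_)
    rw [smul_sub, sub_eq_zero]
    exact hab⟩
  haveI hfree : Module.Free R (I ⟶ F) := inferInstance
  let b := Module.Free.chooseBasis R (I ⟶ F)
  let s : Spec (CommRingCat.of R) := IsLocalRing.closedPoint R
  let η : Spec (CommRingCat.of R) := (⟨⊥, Ideal.isPrime_bot⟩ : PrimeSpectrum R)
  haveI := isOpenImmersion_generic hϖ η rfl
  haveI : IsOpenImmersion ((f₀).fiberι η) :=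
    MorphismProperty.pullback_fst (P := @IsOpenImmersion) _ _ inferInstance
  haveI : QuasiCompact ((f₀).fiberι η) := MorphismProperty.pullback_fst (P := @QuasiCompact) _ _ inferInstance
  have hj := opensRange_generic (X := X) hϖ η rfl
  haveI : (PrimeSpectrum.asIdeal s).IsMaximal := IsLocalRing.maximalIdeal.isMaximal R
  haveI : IsClosedImmersion ((Spec (CommRingCat.of R)).fromSpecResidueField s) := by
    rw [← map_ev]
    exact IsClosedImmersion.spec_of_surjective _ (ev_surjective s)
  haveI : IsClosedImmersion ((f₀).fiberι s) := MorphismProperty.pullback_fst (P := @IsClosedImmersion) _ _ inferInstance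
  have hk : ∀ a : R, IsLocalRing.residue R a = 0 ↔ (ev s).hom a = 0 := fun a => by
    rw [ev_eq_zero, ← RingHom.mem_ker, IsLocalRing.ker_residue]
    rfl
  let σ : IsLocalRing.ResidueField R →+* (Spec (CommRingCat.of R)).residueField s :=
    Ideal.Quotient.lift (IsLocalRing.maximalIdeal R) (ev s).hom fun a ha =>
      (hk a).mp (Ideal.Quotient.eq_zero_iff_mem.mpr ha)
  have hσ : Function.Bijective σ := ⟨σ.injective,
    Ideal.Quotient.lift_surjective_of_surjective _ _ (ev_surjective s)⟩
  let σc : CommRingCat.of (IsLocalRing.ResidueField R) ⟶ (Spec (CommRingCat.of R)).residueField s := CommRingCat.ofHom σ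
  haveI : IsIso σc := (ConcreteCategory.isIso_iff_bijective _).mpr hσ
  haveI : IsIso (Spec.map σc) := inferInstance
  have hsq : IsPullback ((f₀).fiberι s) ((f₀).fiberToSpecResidueField s ≫ Spec.map σc) f₀
      (Spec.map (CommRingCat.ofHom (IsLocalRing.residue R))) := by
    refine (IsPullback.of_hasPullback f₀ ((Spec (CommRingCat.of R)).fromSpecResidueField s)).of_iso
      (Iso.refl _) (Iso.refl _) (asIso (Spec.map σc)) (Iso.refl _) ?_ ?_ ?_ ?_
    · exact (Category.comp_id _).trans (Category.id_comp _).symm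
    · exact (Category.id_comp _).symm
    · exact (Category.comp_id _).trans (Category.id_comp _).symm
    · simp only [asIso_hom, Iso.refl_hom, Category.comp_id]
      rw [← Spec.map_comp, ← map_ev]
      rfl
  have hpb : ∀ (y : Spec (CommRingCat.of R)) (c : R) (ψ : I ⟶ F),
      letI : ((f₀).fiber y).Over (Spec (CommRingCat.of ((Spec (CommRingCat.of R)).residueField y))) :=
        ⟨(f₀).fiberToSpecResidueField y⟩
      (Scheme.Modules.pullback ((f₀).fiberι y)).map (c • ψ) =
        ((ev y).hom c) • (Scheme.Modules.pullback ((f₀).fiberι y)).map ψ := by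
    intro y c ψ
    rw [pullback_smul, toGlobal_fibre]
    rfl
  have hsum : ∀ (y : Spec (CommRingCat.of R)) (a : Module.Free.ChooseBasisIndex R (I ⟶ F) → R),
      letI : ((f₀).fiber y).Over (Spec (CommRingCat.of ((Spec (CommRingCat.of R)).residueField y))) :=
        ⟨(f₀).fiberToSpecResidueField y⟩
      (Scheme.Modules.pullback ((f₀).fiberι y)).map (∑ i, a i • b i) =
        ∑ i, (ev y).hom (a i) • (Scheme.Modules.pullback ((f₀).fiberι y)).map (b i) := fun y a => by
    rw [Functor.map_sum]
    exact Finset.sum_congr rfl fun i _ => hpb y (a i) (b i)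
  have hspan : n ≤ Fintype.card (Module.Free.ChooseBasisIndex R (I ⟶ F)) := by
    letI : ((f₀).fiber η).Over (Spec (CommRingCat.of ((Spec (CommRingCat.of R)).residueField η))) :=
      ⟨(f₀).fiberToSpecResidueField η⟩
    rw [← hfib η]
    have htop : Submodule.span ((Spec (CommRingCat.of R)).residueField η)
        (Set.range fun i => (Scheme.Modules.pullback ((f₀).fiberι η)).map (b i)) = ⊤ := by
      refine eq_top_iff.mpr fun v _ => ?_
      obtain ⟨N, φ, hφ⟩ := exists_extend ((f₀).fiberι η) ϖ hϖ.ne_zero hj hI hF hfl v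
      have h1 : (Scheme.Modules.pullback ((f₀).fiberι η)).map φ = ((ev η).hom (ϖ ^ N)) • v := by
        rw [hφ, toGlobal_fibre]
        rfl
      have hne : (ev η).hom (ϖ ^ N) ≠ 0 := fun h => pow_ne_zero N hϖ.ne_zero ((ev_eq_zero η _).mp h)
      refine (Submodule.smul_mem_iff _ hne).mp ?_
      rw [← h1, ← b.sum_repr φ, hsum η]
      exact Submodule.sum_mem _ fun i _ => Submodule.smul_mem _ _ (Submodule.subset_span ⟨i, rfl⟩)
    rw [← finrank_top, ← htop]
    exact finrank_range_le_card _
  letI : ((f₀).fiber s).Over (Spec (CommRingCat.of ((Spec (CommRingCat.of R)).residueField s))) :=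
    ⟨(f₀).fiberToSpecResidueField s⟩
  haveI : IsProper ((f₀).fiber s ↘ Spec (CommRingCat.of ((Spec (CommRingCat.of R)).residueField s))) :=
    MorphismProperty.pullback_snd (P := @IsProper) _ _ inferInstance
  have hli : LinearIndependent ((Spec (CommRingCat.of R)).residueField s)
      fun i => (Scheme.Modules.pullback ((f₀).fiberι s)).map (b i) := by
    rw [Fintype.linearIndependent_iff]
    intro c hc i
    choose a ha using fun i => ev_surjective s (c i)
    obtain ⟨ψ, hψ⟩ := exists_div ((f₀).fiberι s) _ hsq hϖ hfl (∑ i, a i • b i) (by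
      rw [hsum s]
      simp_rw [ha]
      exact hc)
    have h2 := congrArg (fun t => b.repr t i) hψ
    simp only [b.repr_sum_self, map_smul, Finsupp.smul_apply, smul_eq_mul] at h2
    rw [← ha i, h2, map_mul]
    have h0 : (ev s).hom ϖ = 0 := (hk ϖ).mp (Ideal.Quotient.eq_zero_iff_mem.mpr
      (hϖ.maximalIdeal_eq ▸ Ideal.mem_span_singleton_self ϖ))
    rw [h0, zero_mul]
  have hindep : Fintype.card (Module.Free.ChooseBasisIndex R (I ⟶ F)) ≤ n := by
    haveI := KSMod.finite_hom (k := (Spec (CommRingCat.of R)).residueField s)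
      (ConsLib.isCoh_pullback ((f₀).fiberι s) hI) (ConsLib.isCoh_pullback ((f₀).fiberι s) hF)
    rw [← hfib s]
    exact hli.fintype_card_le_finrank
  have hr : Module.finrank R (I ⟶ F) = n := by
    rw [Module.finrank_eq_card_chooseBasisIndex]
    omega
  refine ⟨hfin, hfree, hr, fun hn => ?_⟩
  obtain ⟨i⟩ : Nonempty (Module.Free.ChooseBasisIndex R (I ⟶ F)) := Fintype.card_pos_iff.mp (by omega)
  refine ⟨b i, fun y hy => ?_⟩
  rcases point_cases y with h | h
  · obtain rfl : y = η := PrimeSpectrum.ext h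
    exact b.ne_zero i (eq_zero_of_pullback ((f₀).fiberι η) ϖ hϖ.ne_zero hj hI hF hfl _ hy)
  · obtain rfl : y = s := PrimeSpectrum.ext h
    exact hli.ne_zero i hy

end HomDvrLib
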